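import Mathlib

/-!
# Project SAP (S2284 + S2297): short presentations of `S_n` and `A_n` — definitions

Designer: helper7.  Paper proof and row list: `Cfsg/Agent/Lib/helper7/SAP/Skel.lean.txt`.

Conventions: permutations act on the left (`(σ * τ) x = σ (τ x)`), conjugation is
`h * g * h⁻¹`, so `σ * c3 y s t * σ⁻¹ = c3 (σ y) (σ s) (σ t)`.
-/

namespace Cfsg.Agent.Lib.helper7.SAP

open Equiv

/-- Carmichael's relations for a family `x : ι → G` (they present `A_{|ι|+2}` on the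
3-cycles `(i, *, *')`). -/
def CarRel {G : Type*} [Group G] {ι : Type*} (x : ι → G) : Prop :=
  (∀ i, x i ^ 3 = 1) ∧ ∀ i j, i ≠ j → (x i * x j) ^ 2 = 1

/-- The 3-cycle `y ↦ s ↦ t ↦ y`. -/
def c3 {α : Type*} [DecidableEq α] (y s t : α) : Perm α := swap y s * swap s t

/-- The points: `ZMod p` (old ordinary points), two special points, `k` new points. -/
abbrev Pt (p k : ℕ) := (ZMod p ⊕ Fin 2) ⊕ Fin k

/-- The index set of the ordinary points (old and new). -/
abbrev Ix (p k : ℕ) := ZMod p ⊕ Fin k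

/-- old ordinary point -/
def po {p k : ℕ} (x : ZMod p) : Pt p k := Sum.inl (Sum.inl x)
/-- first special point -/
def ps1 {p k : ℕ} : Pt p k := Sum.inl (Sum.inr 0)
/-- second special point -/
def ps2 {p k : ℕ} : Pt p k := Sum.inl (Sum.inr 1)
/-- new ordinary point -/
def pe {p k : ℕ} (j : Fin k) : Pt p k := Sum.inr j

/-- the ordinary point of an index -/
def pt {p k : ℕ} : Ix p k → Pt p k
  | Sum.inl x => po x
  | Sum.inr j => pe j

/-- the Carmichael 3-cycle `(pt y, *, *')` -/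
def zh {p k : ℕ} (y : Ix p k) : Perm (Pt p k) := c3 (pt y) ps1 ps2

/-- the translation `x ↦ x + 1` on the old points -/
def ah (p k : ℕ) : Perm (Pt p k) :=
  Equiv.sumCongr (Equiv.sumCongr (Equiv.addRight (1 : ZMod p)) (Equiv.refl (Fin 2)))
    (Equiv.refl (Fin k))

/-- the multiplication `x ↦ r x` on the old points together with the swap of the two special
points (an even permutation when `r` generates the units) -/
def bh {p : ℕ} (k : ℕ) (r : (ZMod p)ˣ) : Perm (Pt p k) :=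
  Equiv.sumCongr (Equiv.sumCongr (Units.mulLeft r) (swap (0 : Fin 2) 1)) (Equiv.refl (Fin k))

/-- the old part `1, 2, …, l` of the gluing cycle -/
def arcO (p k l : ℕ) : List (Pt p k) := (List.range l).map fun j => po (((j + 1 : ℕ) : ZMod p))

/-- the new part `e_0, …, e_{k-1}` of the gluing cycle -/
def arcE (p k : ℕ) : List (Pt p k) := (List.finRange k).map pe

/-- the gluing cycle `1 ↦ 2 ↦ … ↦ l ↦ e_0 ↦ … ↦ e_{k-1} ↦ 1` -/
def th (p k l : ℕ) : Perm (Pt p k) := (arcO p k l ++ arcE p k).formPerm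

/-- the even old permutation which agrees with `th` on `1, …, l - 1`: the cycle
`1 ↦ 2 ↦ … ↦ l ↦ 1`, times the swap of the special points when `l` is even -/
def nh (p k l : ℕ) : Perm (Pt p k) :=
  (arcO p k l).formPerm * (if Even l then swap ps1 ps2 else 1)

/-- the sign with which `nh` acts on the Carmichael family -/
def sgn (l : ℕ) : ℤ := if Even l then -1 else 1

/-- index version of `nh` on the old points -/
def nuI (p l : ℕ) (x : ZMod p) : ZMod p :=
  if 1 ≤ x.val ∧ x.val < l then x + 1 else if x.val = l then 1 else x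

/-- index version of `th` -/
def tauI (p k l : ℕ) : Ix p k → Ix p k
  | Sum.inl x =>
      if 1 ≤ x.val ∧ x.val < l then Sum.inl (x + 1)
      else if x.val = l then (if h : 0 < k then Sum.inr ⟨0, h⟩ else Sum.inl 1)
      else Sum.inl x
  | Sum.inr j => if h : j.val + 1 < k then Sum.inr ⟨j.val + 1, h⟩ else Sum.inl 1

section abstract
variable {G : Type*} [Group G]

/-- the old Carmichael family `z_x = a^x z a^-x` -/
def zo {p : ℕ} (a z : G) (x : ZMod p) : G := a ^ x.val * z * (a ^ x.val)⁻¹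

/-- the extended Carmichael family: `z_{e_j} = τ^(j+1) z_l τ^-(j+1)` -/
def zx {p k : ℕ} (a z τ : G) (l : ℕ) : Ix p k → G
  | Sum.inl x => zo a z x
  | Sum.inr j => τ ^ (j.val + 1) * zo a z ((l : ℕ) : ZMod p) * (τ ^ (j.val + 1))⁻¹

end abstract

/-- The hypotheses of the base theorem (`A_{p+2}` on `a`, `z`): `β` is an element of the
subgroup generated by the `z_x` which acts on `a`, `z` like `x ↦ r x` (+ swap of the special
points), `r` a generator of the units of `ZMod p`. -/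
structure BaseHyp (p : ℕ) (G : Type*) [Group G] where
  a : G
  z : G
  β : G
  r : (ZMod p)ˣ
  hr : ∀ u : (ZMod p)ˣ, u ∈ Subgroup.zpowers r
  ha : a ^ p = 1
  hz : z ^ 3 = 1
  hzz : (z * (a * z * a⁻¹)) ^ 2 = 1
  hβa : β * a * β⁻¹ = a ^ (r : ZMod p).val
  hβz : β * z * β⁻¹ = z⁻¹
  hβ : β ∈ Subgroup.closure (Set.range (zo a z : ZMod p → G))

/-- The hypotheses of the gluing theorem. -/
structure GlueHyp (p k l : ℕ) (G : Type*) [Group G] extends BaseHyp p G where
  ψ : G →* Perm (Pt p k)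
  hψa : ψ a = ah p k
  hψz : ψ z = zh (Sum.inl 0)
  τ : G
  hψτ : ψ τ = th p k l
  ν : G
  hψν : ψ ν = nh p k l
  hν : ν ∈ Subgroup.closure (Set.range (zo a z : ZMod p → G))
  hτz : τ * z = z * τ
  hτm : τ ^ (l + k) = 1
  hglue : (ν⁻¹ * τ) * (a ^ l * β * (a ^ l)⁻¹) = (a ^ l * β * (a ^ l)⁻¹) * (ν⁻¹ * τ)
  hkl : k + 1 ≤ l
  hlp : l + 1 ≤ p

section words

/-- first free generator (`a`) -/
abbrev wA : FreeGroup (Fin 2) := FreeGroup.of 0

/-- second free generator (`g = z τ`; `z = g ^ ez`, `τ = g ^ et`) -/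
abbrev wG : FreeGroup (Fin 2) := FreeGroup.of 1

/-- The six common relators (`m = l + k`, `Z = wG ^ ez`, `T = wG ^ et`, `rv` the residue of the
generator `r`, `Bw`, `Nw` words for `β`, `ν`):
`a^p`, `g^(3m)`, `(z · a z a⁻¹)^2`, `β a β⁻¹ a^-r`, `β z β⁻¹ z`, the gluing commutator. -/
def relsCommon (p l k ez et rv : ℕ) (Bw Nw : FreeGroup (Fin 2)) : List (FreeGroup (Fin 2)) :=
  [ wA ^ p,
    wG ^ (3 * (l + k)),
    (wG ^ ez * (wA * wG ^ ez * wA⁻¹)) ^ 2,
    Bw * wA * Bw⁻¹ * (wA ^ rv)⁻¹,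
    Bw * wG ^ ez * Bw⁻¹ * wG ^ ez,
    ((Nw⁻¹ * wG ^ et) * (wA ^ l * Bw * (wA ^ l)⁻¹)) *
      ((wA ^ l * Bw * (wA ^ l)⁻¹) * (Nw⁻¹ * wG ^ et))⁻¹ ]

/-- evaluation of words at the concrete permutations `a ↦ ah`, `g ↦ zh 0 * th` -/
noncomputable def evP (p k l : ℕ) : FreeGroup (Fin 2) →* Perm (Pt p k) :=
  FreeGroup.lift ![ah p k, zh (Sum.inl 0) * th p k l]

end words

end Cfsg.Agent.Lib.helper7.SAP
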