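import Cfsg.Agent.Lib.helper7.SAP.Defs

/-!
# SAP: spare copies (own names) of the small rows TR1, TR2, TR4, TR5, PRES1, PRES2

Exact Skel statements under the names `sap*_h7_*`; the verbatim rows may be one-liners on them.
-/

namespace Cfsg.Agent.Lib.helper7.SAP

open Equiv

/-- spare for TR1 `iso_of_card` -/
theorem saptr1_h7_iso_of_card {G : Type*} {P : Type*} [Group G] [Group P] [Finite G] (f : G →* P)
    (hf : Function.Surjective f) (hc : Nat.card G ≤ Nat.card P) : Function.Bijective f :=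
  hf.bijective_of_nat_card_le hc

/-- spare for TR4 `card_Pt` -/
theorem saptr4_h7_card_Pt (p k : ℕ) [NeZero p] : Nonempty (Pt p k ≃ Fin (p + 2 + k)) := by
  refine ⟨Fintype.equivFinOfCardEq ?_⟩
  simp [Pt, ZMod.card]

/-- spare for TR5 `exists_word` -/
theorem saptr5_h7_exists_word {F : Type*} {P : Type*} [Group F] [Group P] (f : F →* P) {ι : Type*}
    (X : ι → F) (q : P) (hq : q ∈ Subgroup.closure (Set.range fun i => f (X i))) :
    ∃ w ∈ Subgroup.closure (Set.range X), f w = q := by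
  have h2 : Set.range (fun i => f (X i)) = f '' Set.range X := by
    ext y; constructor
    · rintro ⟨i, rfl⟩; exact ⟨X i, ⟨i, rfl⟩, rfl⟩
    · rintro ⟨_, ⟨i, rfl⟩, rfl⟩; exact ⟨i, rfl⟩
  rw [h2, ← MonoidHom.map_closure] at hq
  obtain ⟨w, hw, rfl⟩ := hq
  exact ⟨w, hw, rfl⟩

/-- spare for PRES1 `crt_exps` -/
theorem sappres1_h7_crt_exps (m : ℕ) (hm : 0 < m) (h3 : ¬ 3 ∣ m) :
    ∃ ez et : ℕ, ez % 3 = 1 ∧ m ∣ ez ∧ 3 ∣ et ∧ et % m = 1 % m ∧
      (ez + et) % (3 * m) = 1 % (3 * m) := by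
  have hmod : m % 3 = 1 ∨ m % 3 = 2 := by omega
  rcases hmod with h | h
  · refine ⟨m, 2 * m + 1, h, dvd_rfl, by omega, ?_, ?_⟩
    · rw [Nat.add_mod, Nat.mul_mod_left, zero_add, Nat.mod_mod]
    · have : m + (2 * m + 1) = 1 + 3 * m := by ring
      rw [this, Nat.add_mod_right]
  · refine ⟨2 * m, m + 1, by omega, Dvd.intro_left 2 rfl, by omega, ?_, ?_⟩
    · rw [Nat.add_mod, Nat.mod_self, zero_add, Nat.mod_mod]
    · have : 2 * m + (m + 1) = 1 + 3 * m := by ring
      rw [this, Nat.add_mod_right]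

/-- spare for PRES2 `merged` -/
theorem sappres2_h7_merged {G : Type*} [Group G] (g : G) (m ez et : ℕ) (hg : g ^ (3 * m) = 1)
    (h1 : m ∣ ez) (h2 : 3 ∣ et) (h3 : (ez + et) % (3 * m) = 1 % (3 * m)) :
    (g ^ ez) ^ 3 = 1 ∧ (g ^ et) ^ m = 1 ∧ g ^ et * g ^ ez = g ^ ez * g ^ et ∧
      g ^ ez * g ^ et = g := by
  refine ⟨?_, ?_, ?_, ?_⟩
  · obtain ⟨c, rfl⟩ := h1
    rw [← pow_mul, show m * c * 3 = 3 * m * c by ring, pow_mul, hg, one_pow]
  · obtain ⟨c, rfl⟩ := h2
    rw [← pow_mul, show 3 * c * m = 3 * m * c by ring, pow_mul, hg, one_pow]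
  · rw [← pow_add, ← pow_add, add_comm]
  · rw [← pow_add]
    rcases Nat.eq_zero_or_pos m with hm | hm
    · subst hm
      obtain ⟨c, rfl⟩ := h1
      obtain ⟨d, rfl⟩ := h2
      simp at h3
    · have h4 : 1 % (3 * m) = 1 := Nat.mod_eq_of_lt (by omega)
      rw [h4] at h3
      have h5 : g ^ (ez + et) = g ^ ((ez + et) % (3 * m)) := by
        conv_lhs => rw [← Nat.div_add_mod (ez + et) (3 * m)]
        rw [pow_add, pow_mul, hg, one_pow, one_mul]
      rw [h5, h3, pow_one]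

/-- spare for TR2 `index_two_bound` -/
theorem saptr2_h7_index_two_bound {G : Type*} [Group G] (N : Subgroup G) [Finite N] (t : G)
    (hn : ∀ x ∈ N, t * x * t⁻¹ ∈ N) (ht : t ^ 2 ∈ N) (hgen : N ⊔ Subgroup.zpowers t = ⊤) :
    Finite G ∧ Nat.card G ≤ 2 * Nat.card N := by
  -- conjugation by `t⁻¹`
  have hn' : ∀ x ∈ N, t⁻¹ * x * t ∈ N := by
    intro x hx
    have h1 : t⁻¹ * x * t = (t ^ 2)⁻¹ * (t * x * t⁻¹) * t ^ 2 := by group
    rw [h1]
    exact mul_mem (mul_mem (inv_mem ht) (hn x hx)) ht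
  have htn : t ∈ Subgroup.normalizer (N : Set G) := by
    rw [Subgroup.mem_normalizer_iff]
    intro x
    refine ⟨hn x, fun h => ?_⟩
    have := hn' _ h
    have h2 : t⁻¹ * (t * x * t⁻¹) * t = x := by group
    rwa [h2] at this
  have hnorm : Subgroup.normalizer (N : Set G) = ⊤ := by
    rw [eq_top_iff, ← hgen]
    exact sup_le Subgroup.le_normalizer (by rw [Subgroup.zpowers_le]; exact htn)
  haveI : N.Normal := Subgroup.normalizer_eq_top_iff.1 hnorm
  -- the quotient is generated by the image of `t`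
  have hq : ∀ q : G ⧸ N, q ∈ Subgroup.zpowers (QuotientGroup.mk' N t) := by
    intro q
    obtain ⟨g, rfl⟩ := QuotientGroup.mk'_surjective N q
    have hg : g ∈ N ⊔ Subgroup.zpowers t := by rw [hgen]; trivial
    have h3 : QuotientGroup.mk' N g ∈ (N ⊔ Subgroup.zpowers t).map (QuotientGroup.mk' N) :=
      Subgroup.mem_map_of_mem _ hg
    rw [Subgroup.map_sup, MonoidHom.map_zpowers] at h3
    have h4 : N.map (QuotientGroup.mk' N) = ⊥ := by
      rw [eq_bot_iff]
      rintro _ ⟨x, hx, rfl⟩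
      rw [Subgroup.mem_bot]
      exact (QuotientGroup.eq_one_iff x).2 hx
    rwa [h4, bot_sup_eq] at h3
  have ht2 : (QuotientGroup.mk' N t) ^ 2 = 1 := by
    rw [← map_pow]; exact (QuotientGroup.eq_one_iff _).2 ht
  have hcardq : Nat.card (G ⧸ N) ≤ 2 := by
    have h5 : Nat.card (G ⧸ N) = Nat.card (Subgroup.zpowers (QuotientGroup.mk' N t)) := by
      have : Subgroup.zpowers (QuotientGroup.mk' N t) = ⊤ := by
        rw [eq_top_iff]; intro q _; exact hq q
      rw [this, Subgroup.card_top]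
    rw [h5, Nat.card_zpowers]
    exact orderOf_le_of_pow_eq_one (by norm_num) ht2
  have hpos : 0 < Nat.card (G ⧸ N) := by
    have h5 : Nat.card (G ⧸ N) = Nat.card (Subgroup.zpowers (QuotientGroup.mk' N t)) := by
      have : Subgroup.zpowers (QuotientGroup.mk' N t) = ⊤ := by
        rw [eq_top_iff]; intro q _; exact hq q
      rw [this, Subgroup.card_top]
    rw [h5, Nat.card_zpowers]
    exact orderOf_pos_iff.2 (isOfFinOrder_iff_pow_eq_one.2 ⟨2, by norm_num, ht2⟩)
  have hmul : Nat.card N * Nat.card (G ⧸ N) = Nat.card G := by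
    have := Subgroup.card_mul_index N
    rwa [Subgroup.index] at this
  have hNpos : 0 < Nat.card N := Nat.card_pos
  constructor
  · apply Nat.finite_of_card_ne_zero
    rw [← hmul]
    exact (Nat.mul_pos hNpos hpos).ne'
  · rw [← hmul, mul_comm]
    exact Nat.mul_le_mul_right _ hcardq

end Cfsg.Agent.Lib.helper7.SAP
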