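import Cfsg.Agent.Lib.helper7.SAP.Defs
import Cfsg.Agent.Lib.Helper10.SAPPRES1
import Cfsg.Agent.Lib.Helper9.SAPPERM9

/-! SAP row PRES6 (`glueHyp_of_rels`), verbatim. -/

namespace Cfsg.Agent.Lib.helper7.SAP

open Equiv

universe u

/-- a homomorphism maps `zo` to `zo` -/
theorem sappres6_map_zo {p : ℕ} {G H : Type*} [Group G] [Group H] (f : G →* H) (a z : G) (x : ZMod p) :
    f (zo a z x) = zo (f a) (f z) x := by
  simp [zo]

/-- image of a generated subgroup, family version -/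
theorem sappres6_map_mem {F P : Type*} [Group F] [Group P] (f : F →* P) {ι : Type*} (X : ι → F)
    (Y : ι → P) (hXY : ∀ i, f (X i) = Y i) (w : F) (hw : w ∈ Subgroup.closure (Set.range X)) :
    f w ∈ Subgroup.closure (Set.range Y) := by
  have h1 : f w ∈ (Subgroup.closure (Set.range X)).map f := Subgroup.mem_map_of_mem f hw
  rw [MonoidHom.map_closure] at h1
  have h2 : f '' Set.range X = Set.range Y := by
    ext q; constructor
    · rintro ⟨_, ⟨i, rfl⟩, rfl⟩; exact ⟨i, (hXY i).symm⟩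
    · rintro ⟨i, rfl⟩; exact ⟨X i, ⟨i, rfl⟩, hXY i⟩
  rwa [h2] at h1

/-- PRES6 [M-H]: a group in which the common relators hold, with a compatible homomorphism to
`Perm (Pt p k)`, carries a `GlueHyp`. -/
theorem glueHyp_of_rels (p k l : ℕ) [Fact p.Prime] {G : Type u} [Group G] (a g : G) (hkl : k + 1 ≤ l) (hlp : l + 1 ≤ p)
    (r : (ZMod p)ˣ) (hr : ∀ u : (ZMod p)ˣ, u ∈ Subgroup.zpowers r) (ez et : ℕ)
    (hz3 : ez % 3 = 1) (hzm : (l + k) ∣ ez) (ht3 : 3 ∣ et) (htm : et % (l + k) = 1 % (l + k))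
    (hzt : (ez + et) % (3 * (l + k)) = 1 % (3 * (l + k)))
    (Bw Nw : FreeGroup (Fin 2))
    (hBw : Bw ∈ Subgroup.closure (Set.range (zo wA (wG ^ ez) : ZMod p → FreeGroup (Fin 2))))
    (hNw : Nw ∈ Subgroup.closure (Set.range (zo wA (wG ^ ez) : ZMod p → FreeGroup (Fin 2))))
    (hB : evP p k l Bw = bh k r) (hN : evP p k l Nw = nh p k l)
    (hrel : ∀ w ∈ relsCommon p l k ez et (r : ZMod p).val Bw Nw, FreeGroup.lift ![a, g] w = 1)
    (ψ : G →* Perm (Pt p k)) (hψa : ψ a = ah p k) (hψg : ψ g = zh (Sum.inl 0) * th p k l) :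
    ∃ H : GlueHyp p k l G, H.a = a ∧ H.z = g ^ ez ∧ H.τ = g ^ et ∧ H.ψ = ψ ∧
      H.β = FreeGroup.lift ![a, g] Bw ∧ H.ν = FreeGroup.lift ![a, g] Nw := by
  set φ : FreeGroup (Fin 2) →* G := FreeGroup.lift ![a, g] with hφ
  have hφA : φ wA = a := by simp [hφ, wA]
  have hφG : φ wG = g := by simp [hφ, wG]
  have r1 : a ^ p = 1 := by
    have := hrel (wA ^ p) (by simp [relsCommon])
    rwa [map_pow, hφA] at this
  have r2 : g ^ (3 * (l + k)) = 1 := by
    have := hrel (wG ^ (3 * (l + k))) (by simp [relsCommon])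
    rwa [map_pow, hφG] at this
  have r3 : (g ^ ez * (a * g ^ ez * a⁻¹)) ^ 2 = 1 := by
    have := hrel ((wG ^ ez * (wA * wG ^ ez * wA⁻¹)) ^ 2) (by simp [relsCommon])
    simpa only [map_pow, map_mul, map_inv, hφA, hφG] using this
  have r4 : φ Bw * a * (φ Bw)⁻¹ * (a ^ (r : ZMod p).val)⁻¹ = 1 := by
    have := hrel (Bw * wA * Bw⁻¹ * (wA ^ (r : ZMod p).val)⁻¹) (by simp [relsCommon])
    simpa only [map_pow, map_mul, map_inv, hφA, hφG] using this
  have r5 : φ Bw * g ^ ez * (φ Bw)⁻¹ * g ^ ez = 1 := by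
    have := hrel (Bw * wG ^ ez * Bw⁻¹ * wG ^ ez) (by simp [relsCommon])
    simpa only [map_pow, map_mul, map_inv, hφA, hφG] using this
  have r6 : ((φ Nw)⁻¹ * g ^ et) * (a ^ l * φ Bw * (a ^ l)⁻¹) *
      ((a ^ l * φ Bw * (a ^ l)⁻¹) * ((φ Nw)⁻¹ * g ^ et))⁻¹ = 1 := by
    have := hrel (((Nw⁻¹ * wG ^ et) * (wA ^ l * Bw * (wA ^ l)⁻¹)) *
      ((wA ^ l * Bw * (wA ^ l)⁻¹) * (Nw⁻¹ * wG ^ et))⁻¹) (by simp [relsCommon])
    simpa only [map_pow, map_mul, map_inv, hφA, hφG] using this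
  obtain ⟨m1, m2, m3, m4⟩ := merged g (l + k) ez et r2 hzm ht3 hzt
  have hzo : ∀ x : ZMod p, φ (zo wA (wG ^ ez) x) = zo a (g ^ ez) x := by
    intro x; rw [sappres6_map_zo, hφA, map_pow, hφG]
  have hcomp : ∀ w, ψ (φ w) = evP p k l w := by
    intro w
    have : ψ.comp φ = evP p k l := by
      ext i
      fin_cases i
      · simp [hφ, evP, hψa]
      · simp [hφ, evP, hψg]
    rw [← this]; rfl
  refine ⟨{ a := a, z := g ^ ez, β := φ Bw, r := r, hr := hr, ha := r1, hz := m1, hzz := r3,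
            hβa := ?_, hβz := ?_, hβ := ?_, ψ := ψ, hψa := hψa, hψz := ?_, τ := g ^ et, hψτ := ?_,
            ν := φ Nw, hψν := ?_, hν := ?_, hτz := m3, hτm := m2, hglue := ?_, hkl := hkl, hlp := hlp },
          rfl, rfl, rfl, rfl, rfl, rfl⟩
  · rwa [mul_inv_eq_one] at r4
  · rw [mul_eq_one_iff_eq_inv] at r5; exact r5
  · exact sappres6_map_mem φ _ _ hzo Bw hBw
  · rw [map_pow, hψg]; exact gh_pow_ez p k l hlp ez hz3 hzm
  · rw [map_pow, hψg]; exact gh_pow_et p k l hlp et ht3 htm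
  · rw [hcomp, hN]
  · exact sappres6_map_mem φ _ _ hzo Nw hNw
  · rwa [mul_inv_eq_one] at r6

end Cfsg.Agent.Lib.helper7.SAP
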