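import Cfsg.Agent.Lib.helper7.SAP.Defs
import Cfsg.Agent.Lib.Helper29.SAPGL10
import Cfsg.Agent.Lib.Helper13.SAPGL7
import Cfsg.Agent.Lib.Helper21.SAPBASE4
import Cfsg.Agent.Lib.Helper29.SAPBASE1
import Cfsg.Agent.Lib.Helper10.SAPTR2
import Cfsg.Agent.Lib.Helper13.SAPPERM3
import Cfsg.Agent.Lib.helper6.SAPPERM6
import Cfsg.Agent.Lib.Helper10.SAPTR1

namespace Cfsg.Agent.Lib.helper7.SAP

open Equiv

universe u

section glue
variable {p k l : ℕ} {G : Type u} [Group G]

/-- the old family is part of the extended family -/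
theorem sapgl12_old_le (a z τ : G) :
    Subgroup.closure (Set.range (zo a z : ZMod p → G)) ≤
      Subgroup.closure (Set.range (zx a z τ l : Ix p k → G)) := by
  apply Subgroup.closure_mono
  rintro _ ⟨x, rfl⟩
  exact ⟨Sum.inl x, rfl⟩

/-- conjugation by `t` preserves a generated subgroup when it permutes the generators -/
theorem sapgl12_conj_mem {ι : Type*} (X : ι → G) (t : G) (f : ι → ι)
    (h : ∀ i, t * X i * t⁻¹ = X (f i)) (x : G) (hx : x ∈ Subgroup.closure (Set.range X)) :
    t * x * t⁻¹ ∈ Subgroup.closure (Set.range X) := by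
  induction hx using Subgroup.closure_induction with
  | mem y hy =>
    obtain ⟨i, rfl⟩ := hy
    rw [h]; exact Subgroup.subset_closure ⟨f i, rfl⟩
  | one => simp
  | mul y z _ _ hy hz =>
    have : t * (y * z) * t⁻¹ = (t * y * t⁻¹) * (t * z * t⁻¹) := by group
    rw [this]; exact mul_mem hy hz
  | inv y _ hy =>
    have : t * y⁻¹ * t⁻¹ = (t * y * t⁻¹)⁻¹ := by group
    rw [this]; exact inv_mem hy

/-- GL12 [M]: the S-case (`N̂` is normalised by `τ`, index ≤ 2; `th` is odd). -/
theorem glue_final_S [Fact p.Prime] (hp : 3 ≤ p) (H : GlueHyp p k l G) (W : G)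
    (hW : W ∈ Subgroup.closure (Set.range (zx H.a H.z H.τ l : Ix p k → G)))
    (hkill : H.τ ^ 2 = W) (heven : Even (l + k))
    (hgen : Subgroup.closure ({H.a, H.z, H.τ} : Set G) = ⊤) :
    Function.Bijective H.ψ := by
  classical
  have hkl := H.hkl
  have hlp := H.hlp
  set N : Subgroup G := Subgroup.closure (Set.range (zx H.a H.z H.τ l : Ix p k → G)) with hN
  obtain ⟨hfin, hcard⟩ := glue_card H
  haveI : Finite N := hfin
  -- `τ` normalises `N`
  have hnorm : ∀ x ∈ N, H.τ * x * H.τ⁻¹ ∈ N := fun x hx =>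
    sapgl12_conj_mem _ H.τ (tauI p k l) (fun y => glue_tau_zx H y) x hx
  have ht2 : H.τ ^ 2 ∈ N := by rw [hkill]; exact hW
  -- generation
  have haN : H.a ∈ N := sapgl12_old_le H.a H.z H.τ (base_a_mem hp H.toBaseHyp)
  have hzN : H.z ∈ N := by
    have : H.z = zx H.a H.z H.τ l (Sum.inl 0 : Ix p k) := by
      change H.z = zo H.a H.z (0 : ZMod p)
      rw [zo_zero]
    rw [this]; exact Subgroup.subset_closure ⟨_, rfl⟩
  have hsup : N ⊔ Subgroup.zpowers H.τ = ⊤ := by
    rw [eq_top_iff, ← hgen, Subgroup.closure_le]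
    rintro x hx
    rcases hx with rfl | rfl | rfl
    · exact Subgroup.mem_sup_left haN
    · exact Subgroup.mem_sup_left hzN
    · exact Subgroup.mem_sup_right (Subgroup.mem_zpowers _)
  obtain ⟨hGfin, hGcard⟩ := index_two_bound N H.τ hnorm ht2 hsup
  haveI : Finite G := hGfin
  -- surjectivity
  have hrange_alt : alternatingGroup (Pt p k) ≤ H.ψ.range := by
    rw [← closure_zh p k, Subgroup.closure_le]
    rintro _ ⟨y, rfl⟩
    exact ⟨zx H.a H.z H.τ l y, glue_psi_zx H y⟩
  have hth : Perm.sign (th p k l) = -1 := by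
    have h2 : 2 ≤ l + k := by
      rcases heven with ⟨c, hc⟩; omega
    rw [sign_th p k l hlp h2]
    exact Odd.neg_one_pow (heven.add_one)
  have hsurj : Function.Surjective H.ψ := by
    intro σ
    have hτr : th p k l ∈ H.ψ.range := ⟨H.τ, H.hψτ⟩
    rcases Int.units_eq_one_or (Perm.sign σ) with h1 | h1
    · exact hrange_alt (Perm.mem_alternatingGroup.2 h1)
    · have : σ * (th p k l)⁻¹ ∈ H.ψ.range := by
        apply hrange_alt
        rw [Perm.mem_alternatingGroup, map_mul, map_inv, h1, hth]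
        decide
      have h3 := mul_mem this hτr
      rwa [inv_mul_cancel_right] at h3
  -- counting
  have hcP : Nat.card (Perm (Pt p k)) = (p + k + 2).factorial := by
    rw [Nat.card_eq_fintype_card, Fintype.card_perm]
    congr 1
    simp [Pt, ZMod.card]
    omega
  apply iso_of_card H.ψ hsurj
  rw [hcP]
  exact hGcard.trans hcard

end glue

end Cfsg.Agent.Lib.helper7.SAP
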