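import Cfsg.Agent.Lib.helper7.SAP.Defs
import Cfsg.Agent.Lib.Helper16.SAPSIX
import Cfsg.Agent.Lib.Helper24.SAPNT4
import Cfsg.Agent.Lib.helper7.SAP.Pres7
import Cfsg.Agent.Lib.helper7.SAP.Pres8
import Cfsg.Agent.Lib.Helper10.SAPTR4
import Cfsg.Agent.Lib.Helper11.SAPSM5
import Cfsg.Agent.Lib.Helper10.SAPTR3

namespace Cfsg.Agent.Lib.helper7.SAP

open Equiv

universe u

/-- MAIN1 [S-M] (NT6, PRES7, SIX2, TR4, `Equiv.altCongrHom`) -/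
theorem alt_pres7 (n : ℕ) (hn : 5 ≤ n) :
    ∃ rels : Finset (FreeGroup (Fin 2)), rels.card ≤ 7 ∧
      Nonempty (PresentedGroup (↑rels : Set (FreeGroup (Fin 2))) ≃* alternatingGroup (Fin n)) := by
  by_cases h6 : n = 6
  · subst h6; exact pres_A6
  obtain ⟨p, k, l, hpp, hp, hpk, hkl, hlp, hodd, h3⟩ := sap_goodA n hn h6
  haveI : Fact p.Prime := ⟨hpp⟩
  obtain ⟨rels, hc, ⟨e⟩⟩ := presA p k l hp hkl hlp hodd h3
  obtain ⟨f⟩ := card_Pt p k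
  subst hpk
  exact ⟨rels, hc, ⟨e.trans (Equiv.altCongrHom f)⟩⟩

/-- MAIN2 [S-M] (NT7, PRES8, SIX3, TR4, `Equiv.permCongrHom`) -/
theorem sym_pres7 (n : ℕ) (hn : 5 ≤ n) :
    ∃ rels : Finset (FreeGroup (Fin 2)), rels.card ≤ 7 ∧
      Nonempty (PresentedGroup (↑rels : Set (FreeGroup (Fin 2))) ≃* Perm (Fin n)) := by
  by_cases h6 : n = 6
  · subst h6; exact pres_S6
  obtain ⟨p, k, l, hpp, hp, hpk, hkl, hlp, heven, h3⟩ := sap_goodS n hn h6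
  haveI : Fact p.Prime := ⟨hpp⟩
  obtain ⟨rels, hc, ⟨e⟩⟩ := presS p k l hp hkl hlp heven h3
  obtain ⟨f⟩ := card_Pt p k
  subst hpk
  exact ⟨rels, hc, ⟨e.trans f.permCongrHom⟩⟩

/-- MAIN3 [S] = S2284 (MAIN1, MAIN2, SM5) -/
theorem main_S2284 (n : ℕ) : (∃ rels : Finset (FreeGroup (Fin 2)), rels.card ≤ 8 ∧ Nonempty (PresentedGroup (↑rels : Set (FreeGroup (Fin 2))) ≃* Equiv.Perm (Fin n))) ∧ (∃ rels : Finset (FreeGroup (Fin 2)), rels.card ≤ 8 ∧ Nonempty (PresentedGroup (↑rels : Set (FreeGroup (Fin 2))) ≃* ↥(alternatingGroup (Fin n)))) := by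
  rcases Nat.lt_or_ge n 5 with h | h
  · obtain ⟨⟨r1, h1, e1⟩, ⟨r2, h2, e2⟩⟩ := pres_small n (by omega)
    exact ⟨⟨r1, by omega, e1⟩, ⟨r2, by omega, e2⟩⟩
  · obtain ⟨r1, h1, e1⟩ := sym_pres7 n h
    obtain ⟨r2, h2, e2⟩ := alt_pres7 n h
    exact ⟨⟨r1, by omega, e1⟩, ⟨r2, by omega, e2⟩⟩

/-- MAIN4 [S] = S2297 (MAIN1, MAIN2, TR3) -/
theorem main_S2297 (n : ℕ) (hn : 5 ≤ n) :
    (∀ a b : Equiv.Perm (Fin n), Subgroup.closure ({a, b} : Set (Equiv.Perm (Fin n))) = ⊤ →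
      ∃ rels : Finset (FreeGroup (Fin 2)), rels.card ≤ 9 ∧
        ∃ e : PresentedGroup (↑rels : Set (FreeGroup (Fin 2))) ≃* Equiv.Perm (Fin n),
          e (PresentedGroup.of 0) = a ∧ e (PresentedGroup.of 1) = b) ∧
    (∀ a b : ↥(alternatingGroup (Fin n)), Subgroup.closure ({a, b} : Set ↥(alternatingGroup (Fin n))) = ⊤ →
      ∃ rels : Finset (FreeGroup (Fin 2)), rels.card ≤ 9 ∧
        ∃ e : PresentedGroup (↑rels : Set (FreeGroup (Fin 2))) ≃* ↥(alternatingGroup (Fin n)),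
          e (PresentedGroup.of 0) = a ∧ e (PresentedGroup.of 1) = b) := by
  constructor
  · intro a b hab
    obtain ⟨r0, h0, ⟨e0⟩⟩ := sym_pres7 n hn
    obtain ⟨rels, hc, e, ha, hb⟩ := tietze r0 e0 a b hab
    exact ⟨rels, by omega, e, ha, hb⟩
  · intro a b hab
    obtain ⟨r0, h0, ⟨e0⟩⟩ := alt_pres7 n hn
    obtain ⟨rels, hc, e, ha, hb⟩ := tietze r0 e0 a b hab
    exact ⟨rels, by omega, e, ha, hb⟩

end Cfsg.Agent.Lib.helper7.SAP
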